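import Cfsg.Agent.CharactersDeep.CosetAverage
import Cfsg.Agent.H686.SlCentral
import Cfsg.Agent.Characters.SchurBound

/-!
# Products of irreducible characters (helper462)

* `eq_of_average` : a character whose average over `N` is its degree is constant on the cosets of `N`;
* `isIrr_mul` : `χ β` is irreducible if `β` is irreducible on `N`, trivial on `R ≤ N`, and `χ` has the same norm on
  `R` and on `N`;
* `norm_eq` : a character of a perfect group whose constituents restrict irreducibly to `R` has the same norm on `R`.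
-/

set_option autoImplicit false

open scoped ComplexConjugate

namespace Cfsg.Agent.H462.T3

open Cfsg Cfsg.Agent.Characters Cfsg.Agent.Characters.Core Cfsg.Agent.H686.CharKit
open Cfsg.Agent.CharactersDeep.CosetAverage

universe u

/-- a character whose average over `N` is its degree is trivial on `N` -/
theorem eq_of_average {G : Type u} [Group G] [Finite G] (N : Subgroup G) [Fintype N] {w : G → ℂ}
    (hw : IsCharacter G w) (h : (Nat.card N : ℂ)⁻¹ * ∑ n : N, w n = w 1) (n : N) : w n = w 1 := by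
  obtain ⟨d, hd⟩ := isCharacter_apply_one hw
  have hle : ∀ x : G, (w x).re ≤ d := fun x => (Complex.re_le_norm _).trans (SchurBound.norm_le hw hd x)
  have hc : (Nat.card N : ℂ) ≠ 0 := by exact_mod_cast Nat.card_pos.ne'
  have h1 : ∑ n : N, w n = Nat.card N * d := by
    rw [hd] at h
    rw [← h, ← mul_assoc, mul_inv_cancel₀ hc, one_mul]
  have h2 : ∑ n : N, (w n).re = ∑ n : N, (d : ℝ) := by
    have h3 := congrArg Complex.re h1
    rw [Complex.re_sum] at h3
    rw [h3, Finset.sum_const, Finset.card_univ, ← Nat.card_eq_fintype_card, nsmul_eq_mul]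
    rw [← Nat.cast_mul, Complex.natCast_re, Nat.cast_mul]
  have h3 := (Finset.sum_eq_sum_iff_of_le (fun (n : N) _ => hle n)).1 h2 n (Finset.mem_univ n)
  have h4 : ‖w n‖ ≤ d := SchurBound.norm_le hw hd n
  rw [hd]
  have h5 : (w n).im = 0 := by
    have h6 := Complex.sq_norm (w n)
    rw [Complex.normSq_apply, h3] at h6
    have h7 : ‖w n‖ ^ 2 ≤ (d : ℝ) ^ 2 := pow_le_pow_left₀ (norm_nonneg _) h4 2
    nlinarith [sq_nonneg (w n).im]
  exact Complex.ext (by rw [h3, Complex.natCast_re]) (by rw [h5, Complex.natCast_im])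

/-- **Products.** -/
theorem isIrr_mul {G : Type u} [Group G] [Fintype G] (N R : Subgroup G) [N.Normal] [R.Normal] [Fintype N] [Fintype R]
    (hRN : R ≤ N) {χ β : G → ℂ} (hχ : IsIrrCharacter G χ) (hβ : IsIrrCharacter G β)
    (hβN : IsIrrCharacter N (fun n : N => β n)) (hβR : ∀ r ∈ R, β r = β 1)
    (h : (Nat.card R : ℂ)⁻¹ * ∑ r : R, χ r * conj (χ r) = (Nat.card N : ℂ)⁻¹ * ∑ n : N, χ n * conj (χ n)) :
    IsIrrCharacter G (χ * β) := by
  have hχc := isIrr_isCharacter hχ
  have hβc := isIrr_isCharacter hβ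
  have hRc : (Nat.card R : ℂ) ≠ 0 := by exact_mod_cast Nat.card_pos.ne'
  have hGc : (Nat.card G : ℂ) ≠ 0 := by exact_mod_cast Nat.card_pos.ne'
  apply isIrr_of_classInner_self (isCharacter_mul hχc hβc)
  set θ : G → ℂ := fun g => χ g * conj (χ g) with hθ
  set b : G → ℂ := fun g => β g * conj (β g) with hb
  have hθc : IsCharacter G θ := isCharacter_mul hχc (isCharacter_conj hχc)
  set w : G → ℂ := fun g => (Nat.card R : ℂ)⁻¹ * ∑ r : R, θ ((r : G) * g) with hw
  have hwc : IsCharacter G w := isCharacter_cosetAverage R hθc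
  -- `w` is trivial on `N`
  have hwN : ∀ n : N, w n = w 1 := by
    apply eq_of_average N hwc
    have h1 : w 1 = (Nat.card N : ℂ)⁻¹ * ∑ n : N, θ n := by
      have h2 : w 1 = (Nat.card R : ℂ)⁻¹ * ∑ r : R, χ r * conj (χ r) := by
        rw [hw]
        simp only [mul_one, hθ]
      rw [h2, h]
    rw [h1]
    congr 1
    have h2 : ∀ r : R, ∑ n : N, θ ((r : G) * (n : G)) = ∑ n : N, θ n := by
      intro r
      refine Fintype.sum_equiv (Equiv.mulLeft (⟨r, hRN r.2⟩ : N)) _ _ fun n => ?_
      rfl
    calc ∑ n : N, w n = (Nat.card R : ℂ)⁻¹ * ∑ n : N, ∑ r : R, θ ((r : G) * (n : G)) := by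
          rw [Finset.mul_sum]
      _ = (Nat.card R : ℂ)⁻¹ * ∑ r : R, ∑ n : N, θ ((r : G) * (n : G)) := by rw [Finset.sum_comm]
      _ = (Nat.card R : ℂ)⁻¹ * ∑ r : R, ∑ n : N, θ n := by
          congr 1
          exact Finset.sum_congr rfl fun r _ => h2 r
      _ = ∑ n : N, θ n := by
          rw [Finset.sum_const, Finset.card_univ, ← Nat.card_eq_fintype_card, nsmul_eq_mul, ← mul_assoc,
            inv_mul_cancel₀ hRc, one_mul]
  have hwinv : ∀ (n : N) (g : G), w ((n : G) * g) = w g := fun n g => apply_mul_of_eq hwc (hwN n) g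
  have hbinv : ∀ (r : R) (g : G), b ((r : G) * g) = b g := by
    intro r g
    rw [hb]
    simp only
    rw [apply_mul_of_eq hβc (hβR r r.2)]
  have h1 : ∑ g, θ g * b g = ∑ g, w g * b g := sum_mul_invariant R θ b hbinv
  have h2 : ∑ g, b g * w g = ∑ g, w g := by
    rw [sum_mul_invariant N b w hwinv]
    refine Finset.sum_congr rfl fun g _ => ?_
    rw [cosetAverage_self N β hβ hβN g, one_mul]
  have h3 : ∑ g, w g = ∑ g, θ g := by
    have h4 := sum_mul_invariant R θ (fun _ => 1) (fun _ _ => rfl)
    simp only [mul_one] at h4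
    exact h4.symm
  have h5 : classInner χ χ = 1 := classInner_irr_self hχ
  rw [classInner_def] at h5 ⊢
  rw [← h5]
  congr 1
  calc ∑ g, (χ * β) g * conj ((χ * β) g) = ∑ g, θ g * b g := by
        refine Finset.sum_congr rfl fun g _ => ?_
        rw [hθ, hb]
        simp only [Pi.mul_apply, map_mul]
        ring
    _ = ∑ g, b g * w g := by
        rw [h1]
        exact Finset.sum_congr rfl fun g _ => mul_comm _ _
    _ = ∑ g, θ g := by rw [h2, h3]

/-- linear characters of a perfect group are trivial -/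
theorem eq_one_of_perfect {N : Type u} [Group N] [Finite N] (hN : commutator N = ⊤) {η : N → ℂ}
    (hη : IsIrrCharacter N η) (h1 : η 1 = 1) : η = 1 := by
  obtain ⟨f, rfl⟩ := Linear.exists_hom_of_isIrrCharacter hη h1
  funext n
  have h4 : commutator N ≤ f.ker := Abelianization.commutator_subset_ker f
  have h5 : f n = 1 := h4 (by rw [hN]; trivial)
  change ((f n : ℂˣ) : ℂ) = 1
  rw [h5, Units.val_one]

/-- characters of a perfect group with the same irreducible restriction to a normal subgroup are equal -/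
theorem eq_of_inner_ne {N : Type u} [Group N] [Fintype N] (hN : commutator N = ⊤) (R : Subgroup N) [R.Normal]
    [Fintype R] {ψ φ : N → ℂ} (hψ : IsIrrCharacter N ψ) (hφ : IsIrrCharacter N φ)
    (hψR : IsIrrCharacter R (fun r : R => ψ r)) (hφR : IsIrrCharacter R (fun r : R => φ r))
    (h : classInner (fun r : R => φ r) (fun r : R => ψ r) ≠ 0) : φ = ψ := by
  obtain ⟨η, hη, -, hφψ⟩ := exists_irr_mul R ψ hψ hψR φ hφ h
  have h1 : (fun r : R => φ r) = (fun r : R => ψ r) := by
    by_contra hne
    exact h (classInner_irr_ne hφR hψR hne)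
  have h2 : φ 1 = ψ 1 := congrFun h1 1
  have h3 : η 1 = 1 := by
    have h4 := congrFun hφψ 1
    rw [Pi.mul_apply, h2] at h4
    exact (mul_eq_left₀ (isIrr_apply_one_ne_zero hψ)).1 h4.symm
  rw [hφψ, eq_one_of_perfect hN hη h3, mul_one]

/-- **Norms.** -/
theorem norm_eq {N : Type u} [Group N] [Fintype N] (hN : commutator N = ⊤) (R : Subgroup N) [R.Normal]
    [Fintype R] {w : N → ℂ} (hw : IsCharacter N w)
    (h : ∀ ψ : N → ℂ, IsIrrCharacter N ψ → classInner w ψ ≠ 0 → IsIrrCharacter R (fun r : R => ψ r)) :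
    classInner (fun r : R => w r) (fun r : R => w r) = classInner w w := by
  classical
  have := finite_irr (G := N)
  have := Fintype.ofFinite (IrrCharacter N)
  obtain ⟨m, hm⟩ := exists_nat_comb hw
  have hm' : w = ∑ ψ : IrrCharacter N, (m ψ : ℂ) • (ψ : N → ℂ) := by
    rw [hm]
    simp only [Nat.cast_smul_eq_nsmul]
  have hirr : ∀ ψ : IrrCharacter N, m ψ ≠ 0 → IsIrrCharacter R (fun r : R => (ψ : N → ℂ) r) := by
    intro ψ hψ
    apply h ψ ψ.2
    rw [hm', classInner_sum_smul_irr]
    exact_mod_cast hψ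
  have hres : (fun r : R => w r) = ∑ ψ : IrrCharacter N, (m ψ : ℂ) • (fun r : R => (ψ : N → ℂ) r) := by
    funext r
    rw [hm']
    simp only [Finset.sum_apply, Pi.smul_apply]
  have hR : classInner (fun r : R => w r) (fun r : R => w r) = ∑ ψ : IrrCharacter N, (m ψ : ℂ) * conj (m ψ : ℂ) := by
    rw [hres, classInner_sum_left]
    refine Finset.sum_congr rfl fun ψ _ => ?_
    rw [classInner_smul_left]
    by_cases h0 : m ψ = 0
    · rw [h0, Nat.cast_zero, zero_mul, zero_mul]
    · congr 1
      rw [classInner_sum_right, Finset.sum_eq_single ψ]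
      · rw [classInner_smul_right, classInner_irr_self (hirr ψ h0), mul_one]
      · intro φ _ hne
        rw [classInner_smul_right]
        by_cases h1 : m φ = 0
        · rw [h1, Nat.cast_zero, map_zero, zero_mul]
        · have h2 : classInner (fun r : R => (ψ : N → ℂ) r) (fun r : R => (φ : N → ℂ) r) = 0 := by
            by_contra h3
            exact hne (Subtype.ext (eq_of_inner_ne hN R φ.2 ψ.2 (hirr φ h1) (hirr ψ h0) h3).symm)
          rw [h2, mul_zero]
      · intro h1
        exact (h1 (Finset.mem_univ _)).elim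
  rw [hR]
  conv_rhs => rw [hm']
  rw [classInner_sum_smul_sum_smul]

end Cfsg.Agent.H462.T3
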